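import Cfsg.Agent.HeRecog.M8a.SS2IdxC.Defs

/-! Generated: kernel checks. -/

set_option autoImplicit false
set_option maxRecDepth 100000
set_option Elab.async false

namespace Cfsg.Agent.HeRecog.M8a.SS2IdxC

open Cfsg.Agent.CosetCert

theorem cosetAt0 : allFrom (data.checkCoset) 0 465 = true := by decide +kernel


end Cfsg.Agent.HeRecog.M8a.SS2IdxC
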