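import Cfsg.Agent.HeRecog.M8a.SS2IdxC.Defs

/-! Generated: kernel checks. -/

set_option autoImplicit false
set_option maxRecDepth 100000
set_option Elab.async false

namespace Cfsg.Agent.HeRecog.M8a.SS2IdxC

open Cfsg.Agent.CosetCert

theorem logAt20000 : allFrom (data.checkLog) 20000 2500 = true := by decide +kernel

theorem logAt22500 : allFrom (data.checkLog) 22500 2500 = true := by decide +kernel

theorem logAt25000 : allFrom (data.checkLog) 25000 2500 = true := by decide +kernel

theorem logAt27500 : allFrom (data.checkLog) 27500 2500 = true := by decide +kernel

theorem logAt30000 : allFrom (data.checkLog) 30000 2500 = true := by decide +kernel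

theorem logAt32500 : allFrom (data.checkLog) 32500 2500 = true := by decide +kernel

theorem logAt35000 : allFrom (data.checkLog) 35000 1554 = true := by decide +kernel


end Cfsg.Agent.HeRecog.M8a.SS2IdxC
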